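import Groth.Agent.ArtFunLib.Versal
import Groth.Agent.ArtFunLib.Essential
import Mathlib.RingTheory.Polynomial.Basic

/-!
# The universal semismall extension with the same cotangent space
-/

set_option autoImplicit false
universe u

open CategoryTheory IsLocalRing ArtFun ArtFun.Art

namespace Groth.Agent.SemiVersal

open Groth.Agent.ArtFunLib

variable {Λ k : Type u} [CommRing Λ] [Field k] [Algebra Λ k]

/-- Elements of `m_R` generating it modulo `m_Λ R + m_R²` generate `R` as an algebra. -/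
theorem aeval_surjective (hk : Function.Surjective (algebraMap Λ k)) (R : Art Λ k) {n : ℕ}
    (x : Fin n → R) (hx : ∀ i, x i ∈ maximalIdeal R)
    (hgen : maximalIdeal R ≤ Ideal.span (Set.range x) ⊔ relSq R) :
    Function.Surjective (MvPolynomial.aeval (R := Λ) x) := by
  set S := (MvPolynomial.aeval (R := Λ) x).range with hS
  have hxS : ∀ i, x i ∈ S := fun i => ⟨MvPolynomial.X i, MvPolynomial.aeval_X _ _⟩
  have h0 : ∀ r : R, ∃ s ∈ S, r - s ∈ maximalIdeal R := fun r => by
    obtain ⟨c, hc⟩ := hk (R.res r)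
    exact ⟨algebraMap Λ R c, S.algebraMap_mem c, by
      rw [mem_maximalIdeal_iff, map_sub, AlgHom.commutes, hc, sub_self]⟩
  have h1 : ∀ r ∈ maximalIdeal R, ∃ s ∈ S, s ∈ maximalIdeal R ∧ r - s ∈ maximalIdeal R ^ 2 := by
    intro r hr
    obtain ⟨u, hu, v, hv, rfl⟩ := Submodule.mem_sup.1 (hgen hr)
    obtain ⟨w, hw, q, hq, rfl⟩ := Submodule.mem_sup.1 hv
    have hlin : ∀ y ∈ Ideal.span (Set.range x) ⊔ Ideal.map (algebraMap Λ R) (RingHom.ker (algebraMap Λ k)),
        ∃ s ∈ S, s ∈ maximalIdeal R ∧ y - s ∈ maximalIdeal R ^ 2 := by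
      intro y hy
      rw [Ideal.map, ← Ideal.span_union] at hy
      induction hy using Submodule.span_induction with
      | mem y hy =>
        refine ⟨y, ?_, ?_, by simp⟩
        · rcases hy with ⟨i, rfl⟩ | ⟨c, -, rfl⟩
          · exact hxS i
          · exact S.algebraMap_mem c
        · rcases hy with ⟨i, rfl⟩ | ⟨c, hc, rfl⟩
          · exact hx i
          · rw [mem_maximalIdeal_iff, AlgHom.commutes]; exact hc
      | zero => exact ⟨0, S.zero_mem, zero_mem _, by simp⟩
      | add a b _ _ ha hb =>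
        obtain ⟨s, hs, hsm, hs'⟩ := ha
        obtain ⟨t, ht, htm, ht'⟩ := hb
        exact ⟨s + t, S.add_mem hs ht, add_mem hsm htm, by rw [add_sub_add_comm]; exact add_mem hs' ht'⟩
      | smul c a _ ha =>
        obtain ⟨s, hs, hsm, hs'⟩ := ha
        obtain ⟨c', hc', hcc⟩ := h0 c
        refine ⟨c' * s, S.mul_mem hc' hs, Ideal.mul_mem_left _ _ hsm, ?_⟩
        rw [smul_eq_mul, show c * a - c' * s = c * (a - s) + (c - c') * s by ring]
        exact add_mem (Ideal.mul_mem_left _ _ hs') (pow_two (maximalIdeal R) ▸ Ideal.mul_mem_mul hcc hsm)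
    obtain ⟨s, hs, hsm, hs'⟩ := hlin (u + w) (add_mem (Submodule.mem_sup_left hu) (Submodule.mem_sup_right hw))
    refine ⟨s, hs, hsm, ?_⟩
    rw [show u + (w + q) - s = (u + w - s) + q by ring]
    exact add_mem hs' hq
  have h2 : ∀ i : ℕ, ∀ r ∈ maximalIdeal R ^ (i + 1), ∃ s ∈ S, s ∈ maximalIdeal R ^ (i + 1) ∧
      r - s ∈ maximalIdeal R ^ (i + 2) := by
    intro i
    induction i with
    | zero =>
      intro r hr
      rw [zero_add, pow_one] at hr ⊢
      exact h1 r hr
    | succ i ih =>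
      intro r hr
      rw [pow_succ] at hr
      refine Submodule.mul_induction_on hr (fun a ha b hb => ?_) (fun a b ha hb => ?_)
      · obtain ⟨s, hs, hsm, hs'⟩ := ih a ha
        obtain ⟨t, ht, htm, ht'⟩ := h1 b hb
        refine ⟨s * t, S.mul_mem hs ht, pow_succ (maximalIdeal R) (i + 1) ▸ Ideal.mul_mem_mul hsm htm, ?_⟩
        rw [show a * b - s * t = (a - s) * b + s * (b - t) by ring]
        refine add_mem ?_ ?_
        · exact pow_succ (maximalIdeal R) (i + 2) ▸ Ideal.mul_mem_mul hs' hb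
        · rw [show i + 1 + 2 = (i + 1) + 2 from rfl, pow_add]
          exact Ideal.mul_mem_mul hsm ht'
      · obtain ⟨s, hs, hsm, hs'⟩ := ha
        obtain ⟨t, ht, htm, ht'⟩ := hb
        exact ⟨s + t, S.add_mem hs ht, add_mem hsm htm, by rw [add_sub_add_comm]; exact add_mem hs' ht'⟩
  have h3 : ∀ i : ℕ, ∀ r : R, ∃ s ∈ S, r - s ∈ maximalIdeal R ^ (i + 1) := by
    intro i
    induction i with
    | zero => intro r; rw [zero_add, pow_one]; exact h0 r
    | succ i ih =>
      intro r
      obtain ⟨s, hs, hs'⟩ := ih r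
      obtain ⟨t, ht, -, ht'⟩ := h2 i _ hs'
      exact ⟨s + t, S.add_mem hs ht, by rw [← sub_sub]; exact ht'⟩
  intro r
  obtain ⟨N, hN⟩ := maximalIdeal_pow_eq_bot R
  obtain ⟨s, hs, hs'⟩ := h3 N r
  rw [hN, Ideal.mem_bot, sub_eq_zero] at hs'
  exact hs' ▸ hs

/-- There is a semismall extension `E → R` with the same relative cotangent space through which every
morphism to the base of a semismall extension lifts. -/
theorem exists_universal [IsNoetherianRing Λ] (hk : Function.Surjective (algebraMap Λ k)) (R : Art Λ k) :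
    ∃ (E : Art Λ k) (p : E ⟶ R), IsSemismallExt p ∧ RingHom.ker p.toAlgHom ≤ relSq E ∧
      ∀ (R₁ R₀ : Art Λ k) (π₁ : R₁ ⟶ R₀) (φ : R ⟶ R₀), IsSemismallExt π₁ →
        ∃ g : E ⟶ R₁, g ≫ π₁ = p ≫ φ := by
  classical
  have hex : ∃ n, ∃ x : Fin n → R, (∀ i, x i ∈ maximalIdeal R) ∧
      maximalIdeal R ≤ Ideal.span (Set.range x) ⊔ relSq R := by
    obtain ⟨s, hs⟩ := IsNoetherian.noetherian (R := R) (M := R) (maximalIdeal R)
    refine ⟨s.card, fun i => (s.equivFin.symm i : R), fun i => hs ▸ Submodule.subset_span (s.equivFin.symm i).2, ?_⟩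
    refine le_trans hs.ge (le_trans (Submodule.span_mono fun y hy => ?_) le_sup_left)
    exact ⟨s.equivFin ⟨y, hy⟩, by simp⟩
  obtain ⟨n, hn⟩ : ∃ n, n = Nat.find hex := ⟨_, rfl⟩
  obtain ⟨x, hx, hgen⟩ := hn ▸ Nat.find_spec hex
  set ψ : MvPolynomial (Fin n) Λ →ₐ[Λ] R := MvPolynomial.aeval x
  have hψs : Function.Surjective ψ := aeval_surjective hk R x hx hgen
  set resQ : MvPolynomial (Fin n) Λ →ₐ[Λ] k := R.res.comp ψ
  set M := RingHom.ker resQ
  set J := RingHom.ker ψ
  have hJM : J ≤ M := fun q hq => by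
    show R.res (ψ q) = 0
    rw [show ψ q = 0 from hq, map_zero]
  have hMψ : ∀ q, q ∈ M ↔ ψ q ∈ maximalIdeal R := fun q =>
    ((mem_maximalIdeal_iff R (ψ q)).trans RingHom.mem_ker.symm).symm
  obtain ⟨N, hN⟩ := maximalIdeal_pow_eq_bot R
  have hMN : M ^ (N + 1) ≤ J := fun q hq => by
    have := apply_mem_pow ψ M (maximalIdeal R) (fun q hq => (hMψ q).1 hq) (N + 1) hq
    rw [hN, Ideal.mem_bot] at this
    exact this
  obtain ⟨E, π, hπs, hπk, hπres⟩ := exists_artQuot (resQ := resQ) (R.res_surjective.comp hψs) (M * J)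
    (Ideal.mul_le_right.trans hJM) (N + 2) (by rw [pow_succ']; exact Ideal.mul_mono_right hMN)
  have hπM : ∀ q, q ∈ M ↔ π q ∈ maximalIdeal E := fun q => by
    rw [mem_maximalIdeal_iff, show E.res (π q) = resQ q from congrArg (fun f : _ →ₐ[Λ] k => f q) hπres]
    rfl
  obtain ⟨pa, hpa⟩ := exists_algHom_factor hπs ψ (hπk.le.trans Ideal.mul_le_right)
  let p : E ⟶ R := ⟨pa, AlgHom.ext fun y => by
    obtain ⟨q, rfl⟩ := hπs y
    exact (congrArg R.res (hpa q)).trans (congrArg (fun f : _ →ₐ[Λ] k => f q) hπres).symm⟩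
  have hp : ∀ q, p (π q) = ψ q := hpa
  have hsemi : IsSemismallExt p := by
    refine ⟨fun r => ?_, le_bot_iff.1 (Ideal.mul_le.2 fun a ha b hb => ?_)⟩
    · obtain ⟨q, rfl⟩ := hψs r
      exact ⟨π q, hp q⟩
    · obtain ⟨a, rfl⟩ := hπs a
      obtain ⟨b, rfl⟩ := hπs b
      rw [Ideal.mem_bot, ← map_mul]
      show a * b ∈ RingHom.ker π
      rw [hπk]
      exact Ideal.mul_mem_mul ((hπM a).2 ha) ((hp b).symm.trans hb)
  refine ⟨E, p, hsemi, ?_, fun R₁ R₀ π₁ φ hπ₁ => ?_⟩
  · intro y hy
    obtain ⟨q, rfl⟩ := hπs y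
    have hqJ : ψ q = 0 := (hp q).symm.trans hy
    -- expansion to first order
    have exp : ∀ q : MvPolynomial (Fin n) Λ, ∃ (c₀ : Λ) (c : Fin n → Λ),
        π q - algebraMap Λ E c₀ - ∑ i, algebraMap Λ E (c i) * π (MvPolynomial.X i) ∈ relSq E ∧
        ψ q - algebraMap Λ R c₀ - ∑ i, algebraMap Λ R (c i) * x i ∈ relSq R := by
      intro q
      induction q using MvPolynomial.induction_on with
      | C a => exact ⟨a, 0, by simp, by simp [ψ]⟩
      | add p q hp hq =>
        obtain ⟨a, c, h1, h1'⟩ := hp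
        obtain ⟨b, d, h2, h2'⟩ := hq
        refine ⟨a + b, c + d, ?_, ?_⟩
        · convert (relSq E).add_mem h1 h2 using 1
          simp only [map_add, Pi.add_apply, add_mul, Finset.sum_add_distrib]
          ring
        · convert (relSq R).add_mem h1' h2' using 1
          simp only [map_add, Pi.add_apply, add_mul, Finset.sum_add_distrib]
          ring
      | mul_X p i hp =>
        obtain ⟨a, c, h1, h1'⟩ := hp
        have main : ∀ (A : Art Λ k) (f : MvPolynomial (Fin n) Λ →ₐ[Λ] A),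
            (∀ j, f (MvPolynomial.X j) ∈ maximalIdeal A) →
            f p - algebraMap Λ A a - ∑ j, algebraMap Λ A (c j) * f (MvPolynomial.X j) ∈ relSq A →
            f (p * MvPolynomial.X i) - algebraMap Λ A 0 -
              ∑ j, algebraMap Λ A ((Pi.single i a : Fin n → Λ) j) * f (MvPolynomial.X j) ∈ relSq A := by
          intro A f hf h
          have hs : ∑ j, algebraMap Λ A ((Pi.single i a : Fin n → Λ) j) * f (MvPolynomial.X j) =
              algebraMap Λ A a * f (MvPolynomial.X i) := by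
            rw [Finset.sum_eq_single i]
            · simp
            · intro j _ hj; simp [hj]
            · simp
          rw [hs, map_mul, map_zero, sub_zero, ← sub_mul]
          rw [show f p - algebraMap Λ A a = (f p - algebraMap Λ A a - ∑ j, algebraMap Λ A (c j) * f (MvPolynomial.X j))
            + ∑ j, algebraMap Λ A (c j) * f (MvPolynomial.X j) by ring, add_mul]
          refine add_mem (Ideal.mul_mem_right _ _ h) (Submodule.mem_sup_right ?_)
          rw [pow_two]
          exact Ideal.mul_mem_mul (Ideal.sum_mem _ fun j _ => Ideal.mul_mem_left _ _ (hf j)) (hf i)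
        refine ⟨0, Pi.single i a, main E π (fun j => (hπM _).1 ((hMψ _).2 ?_)) h1, ?_⟩
        · rw [MvPolynomial.aeval_X]; exact hx j
        · have := main R ψ (fun j => by rw [MvPolynomial.aeval_X]; exact hx j)
            (by simpa [ψ] using h1')
          simpa [ψ] using this
    obtain ⟨c₀, c, hE, hR⟩ := exp q
    rw [hqJ] at hR
    have hrelm : ∀ {A : Art Λ k}, relSq A ≤ maximalIdeal A := fun {A} =>
      sup_le (Ideal.map_le_iff_le_comap.2 fun a ha => by
        rw [Ideal.mem_comap, mem_maximalIdeal_iff, AlgHom.commutes]; exact ha) (Ideal.pow_le_self two_ne_zero)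
    have hc₀ : algebraMap Λ k c₀ = 0 := by
      have h := (mem_maximalIdeal_iff R _).1 (hrelm hR)
      have hx0 : ∀ i, R.res (x i) = 0 := fun i => (mem_maximalIdeal_iff R _).1 (hx i)
      simpa [map_sub, map_sum, hx0] using h
    have hc : ∀ i, algebraMap Λ k (c i) = 0 := by
      intro j
      by_contra hj
      have hu : IsUnit (algebraMap Λ R (c j)) :=
        notMem_maximalIdeal.1 fun h => hj (by rwa [mem_maximalIdeal_iff, AlgHom.commutes] at h)
      obtain ⟨m, hm⟩ : ∃ m, n = m + 1 := ⟨n - 1, by have := j.2; omega⟩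
      refine Nat.find_min hex (show m < Nat.find hex by omega)
        ⟨fun i => x ((j.cast hm).succAbove i |>.cast hm.symm), fun i => hx _, hgen.trans ?_⟩
      set K := Ideal.span (Set.range fun i => x ((j.cast hm).succAbove i |>.cast hm.symm)) ⊔ relSq R
      refine sup_le (Ideal.span_le.2 ?_) le_sup_right
      rintro _ ⟨i, rfl⟩
      have hne : ∀ l, l ≠ j → x l ∈ K := fun l hl => by
        obtain ⟨i', hi'⟩ := Fin.exists_succAbove_eq (show l.cast hm ≠ j.cast hm from fun h => hl (Fin.cast_injective _ h))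
        exact Submodule.mem_sup_left (Ideal.subset_span ⟨i', by simp [hi']⟩)
      by_cases hij : i = j
      · subst hij
        have h1 : algebraMap Λ R c₀ + ∑ l, algebraMap Λ R (c l) * x l ∈ K :=
          Submodule.mem_sup_right (by simpa [sub_sub, add_comm] using (relSq R).neg_mem hR)
        rw [← Finset.add_sum_erase _ _ (Finset.mem_univ i), ← add_assoc] at h1
        have h2 : ∑ l ∈ Finset.univ.erase i, algebraMap Λ R (c l) * x l ∈ K :=
          Ideal.sum_mem _ fun l hl => Ideal.mul_mem_left _ _ (hne l (Finset.ne_of_mem_erase hl))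
        have h3 : algebraMap Λ R c₀ ∈ K :=
          Submodule.mem_sup_right (Submodule.mem_sup_left (Ideal.mem_map_of_mem _ hc₀))
        have h4 := K.sub_mem (K.sub_mem h1 h2) h3
        rw [add_sub_cancel_right, add_sub_cancel_left] at h4
        exact (Ideal.unit_mul_mem_iff_mem _ hu).1 h4
      · exact hne i hij
    have h5 : algebraMap Λ E c₀ + ∑ i, algebraMap Λ E (c i) * π (MvPolynomial.X i) ∈ relSq E :=
      add_mem (Submodule.mem_sup_left (Ideal.mem_map_of_mem _ hc₀))
        (Ideal.sum_mem _ fun i _ => Ideal.mul_mem_right _ _ (Submodule.mem_sup_left (Ideal.mem_map_of_mem _ (hc i))))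
    simpa [sub_sub] using add_mem hE h5
  · have hsurj := hπ₁.1
    choose y hy using fun i => hsurj (φ (x i))
    let g₀ : MvPolynomial (Fin n) Λ →ₐ[Λ] R₁ := MvPolynomial.aeval y
    have hg₀ : ∀ q, π₁ (g₀ q) = φ (ψ q) := fun q => by
      have : π₁.toAlgHom.comp g₀ = φ.toAlgHom.comp ψ := MvPolynomial.algHom_ext fun i => by
        simp [g₀, ψ, hy]
      exact congrArg (fun f : _ →ₐ[Λ] R₀ => f q) this
    have hker : RingHom.ker π ≤ RingHom.ker g₀ := by
      rw [hπk, Ideal.mul_le]
      intro a ha b hb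
      have h1 : g₀ a * g₀ b ∈ maximalIdeal R₁ * RingHom.ker π₁.toAlgHom := by
        refine Ideal.mul_mem_mul ?_ ?_
        · rw [mem_maximalIdeal_iff, ← res_app π₁, hg₀, res_app φ]
          exact ha
        · show π₁ (g₀ b) = 0
          rw [hg₀, show ψ b = 0 from hb, map_zero]
      rw [hπ₁.2, Ideal.mem_bot, ← map_mul] at h1
      exact h1
    obtain ⟨ga, hga⟩ := exists_algHom_factor hπs g₀ hker
    refine ⟨⟨ga, AlgHom.ext fun z => ?_⟩, hom_ext (AlgHom.ext fun z => ?_)⟩
    · obtain ⟨q, rfl⟩ := hπs z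
      show R₁.res (ga (π q)) = E.res (π q)
      rw [hga, show E.res (π q) = resQ q from congrArg (fun f : _ →ₐ[Λ] k => f q) hπres,
        ← res_app π₁, hg₀, res_app φ]
      rfl
    · obtain ⟨q, rfl⟩ := hπs z
      show π₁ (ga (π q)) = φ (p (π q))
      rw [hga, hg₀, hp]

end Groth.Agent.SemiVersal
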